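import Cfsg.Agent.Lib.Frobenius.Basic
import Cfsg.Agent.Lib.Frobenius.Action
import Cfsg.Agent.Lib.Frobenius.FPFThompson
import Cfsg.Agent.Lib.SubgroupCount.Basic

/-!
Frobenius kernels are nilpotent; nilpotent complements of odd order are cyclic.
-/

set_option autoImplicit false

namespace CfsgLib.TwoFrobenius

open Subgroup

universe u

/-- An odd-order nilpotent group all of whose abelian subgroups are cyclic is cyclic. -/
theorem isCyclic_of_abelian_cyclic {C : Type u} [Group C] [Finite C] [Group.IsNilpotent C]
    (hodd : Odd (Nat.card C)) (h : ∀ A : Subgroup C, IsMulCommutative A → IsCyclic A) :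
    IsCyclic C := by
  classical
  have hsyl : ∀ (p : ℕ) [Fact p.Prime] (P : Sylow p C), IsCyclic (P : Subgroup C) := by
    intro p hp P
    obtain ⟨n, hn⟩ := IsPGroup.iff_card.1 P.2
    rcases Nat.eq_zero_or_pos n with rfl | hnpos
    · have : Subsingleton (P : Subgroup C) := (Nat.card_eq_one_iff_unique.1 hn).1
      infer_instance
    have hp2 : p ≠ 2 := by
      rintro rfl
      have h2 : 2 ∣ Nat.card C := (dvd_pow_self 2 hnpos.ne').trans (hn ▸ card_subgroup_dvd_card _)
      exact (Nat.not_even_iff_odd.2 hodd) (even_iff_two_dvd.2 h2)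
    have : Nontrivial (P : Subgroup C) := by
      rw [← Finite.one_lt_card_iff_nontrivial, hn]
      exact Nat.one_lt_pow hnpos.ne' hp.out.one_lt
    have := P.2.center_nontrivial
    obtain ⟨z₀, hz₀⟩ : ∃ z : center (P : Subgroup C), orderOf z = p := by
      refine exists_prime_orderOf_dvd_card' p ?_
      obtain ⟨k, hk⟩ := IsPGroup.iff_card.1 (P.2.to_subgroup (center (P : Subgroup C)))
      have : 1 < Nat.card (center (P : Subgroup C)) := Finite.one_lt_card
      rw [hk] at this ⊢
      exact dvd_pow_self p (by rintro rfl; simp at this)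
    set z : (P : Subgroup C) := (z₀ : (P : Subgroup C))
    have hzp : orderOf z = p := by rw [orderOf_coe]; exact hz₀
    have key : ∀ x : (P : Subgroup C), orderOf x = p → zpowers x = zpowers z := by
      intro x hx
      set A := (closure ({x, z} : Set (P : Subgroup C))).map (P : Subgroup C).subtype with hA
      have hxz : Commute x z := mem_center_iff.1 z₀.2 x
      have hA0 : IsMulCommutative (closure ({x, z} : Set (P : Subgroup C))) := isMulCommutative_closure (by
        intro a ha b hb
        rcases ha with rfl | rfl <;> rcases hb with rfl | rfl <;>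
          first | rfl | exact hxz.eq | exact hxz.eq.symm)
      let e := (closure ({x, z} : Set (P : Subgroup C))).equivMapOfInjective _
        (P : Subgroup C).subtype_injective
      have hAc : IsMulCommutative A := ⟨⟨fun a b => by
        apply e.symm.injective
        rw [map_mul, map_mul]
        exact mul_comm' _ _⟩⟩
      have := h A hAc
      have : IsCyclic (closure ({x, z} : Set (P : Subgroup C))) :=
        isCyclic_of_surjective e.symm e.symm.surjective
      have hexp : ∀ a ∈ closure ({x, z} : Set (P : Subgroup C)), a ^ p = 1 := by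
        intro a ha
        refine congrArg Subtype.val (?_ : (⟨a, ha⟩ : closure ({x, z} : Set (P : Subgroup C))) ^ p = 1)
        have hc : ∀ u v : closure ({x, z} : Set (P : Subgroup C)), u * v = v * u := fun u v =>
          hA0.is_comm.comm u v
        refine Subtype.ext ?_
        refine closure_induction (p := fun a _ => a ^ p = 1) ?_ (one_pow _) ?_ ?_ ha
        · rintro b (rfl | rfl)
          · exact orderOf_dvd_iff_pow_eq_one.1 (dvd_of_eq hx)
          · exact orderOf_dvd_iff_pow_eq_one.1 (dvd_of_eq hzp)
        · intro u v hu hv hu' hv'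
          have : Commute u v := congrArg Subtype.val (hc ⟨u, hu⟩ ⟨v, hv⟩)
          rw [this.mul_pow, hu', hv', one_mul]
        · intro u _ hu'
          rw [inv_pow, hu', inv_one]
      obtain ⟨⟨g, hg⟩, hgen⟩ := IsCyclic.exists_generator
        (α := closure ({x, z} : Set (P : Subgroup C)))
      have hcard : Nat.card (closure ({x, z} : Set (P : Subgroup C))) ≤ p := by
        rw [← orderOf_eq_card_of_forall_mem_zpowers hgen, orderOf_mk]
        exact orderOf_le_of_pow_eq_one hp.out.pos (hexp g hg)
      rw [eq_of_le_of_card_ge (zpowers_le.2 (subset_closure (Set.mem_insert x {z})))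
          (by rwa [Nat.card_zpowers, hx]),
        eq_of_le_of_card_ge (zpowers_le.2 (subset_closure (show z ∈ ({x, z} : Set (P : Subgroup C)) by simp)))
          (by rwa [Nat.card_zpowers, hzp])]
    exact SubgroupCount.isCyclic_of_unique hp.out n hn
      (fun a b ha hb => by rw [key a ha, ← key b hb]; exact mem_zpowers b)
      (fun h2 => absurd h2 hp2)
  obtain ⟨e⟩ := (Group.isNilpotent_of_finite_tfae (G := C)).out 0 4 rfl rfl |>.mp inferInstance
  have hcomm : ∀ a b : C, a * b = b * a := by
    intro a b
    apply e.symm.injective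
    rw [map_mul, map_mul]
    funext p P
    have := Fact.mk (Nat.prime_of_mem_primeFactors p.2)
    have := hsyl p P
    exact mul_comm' (e.symm a p P) (e.symm b p P)
  have : IsMulCommutative (⊤ : Subgroup C) := ⟨⟨fun a b => Subtype.ext (hcomm a b)⟩⟩
  exact (topEquiv (G := C)).isCyclic.1 (h ⊤ this)

variable {G : Type u} [Group G] [Finite G]

/-- A normal subgroup equal to the Frobenius kernel is a complement. -/
theorem isComplement_of_kernel {C : Subgroup G} (hC : Cfsg.IsFrobeniusComplement C) {K : Subgroup G}
    (hK : Cfsg.frobeniusKernel C = (K : Set G)) : K.IsComplement' C := by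
  have hcard : Nat.card K = C.index := by
    rw [← Frobenius.ncard_frobeniusKernel hC, hK]
    exact Nat.card_coe_set_eq (K : Set G)
  refine isComplement'_of_card_mul_and_disjoint ?_ ?_
  · rw [hcard, index_mul_card]
  · rw [disjoint_iff, eq_bot_iff]
    rintro x ⟨hxK, hxC⟩
    have hx : x ∈ Cfsg.frobeniusKernel C := hK ▸ hxK
    rcases hx with rfl | hx
    · exact one_mem _
    · exact absurd (Frobenius.mem_conj_smul_iff.2 (by simpa using hxC)) (hx 1)

/-- Frobenius kernels are nilpotent (Thompson). -/
theorem isNilpotent_kernel {C K : Subgroup G} [hKn : K.Normal] (hC : Cfsg.IsFrobeniusComplement C)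
    (hK : K.IsComplement' C) : Group.IsNilpotent K := by
  obtain ⟨p, hp, hpC⟩ := Nat.exists_prime_and_dvd
    (fun h => hC.1 (card_eq_one.1 h) : Nat.card C ≠ 1)
  have := Fact.mk hp
  obtain ⟨⟨x, hx⟩, hxo⟩ := exists_prime_orderOf_dvd_card' p hpC
  rw [orderOf_mk] at hxo
  refine Frobenius.Thompson.isNilpotent_of_element K (h := x) ?_ hp (by rw [← hxo, pow_orderOf_eq_one])
    (fun k hk hc => ?_)
  · rw [normalizer_eq_top_iff.2 hKn]; exact mem_top x
  · refine Frobenius.eq_one_of_commute hC hK.disjoint hk hx (fun h0 => ?_) hc
    rw [h0, orderOf_one] at hxo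
    exact hp.ne_one hxo.symm

end CfsgLib.TwoFrobenius
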